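import Cfsg.Agent.E7P.Ns.Num

/-!
# S5932, NONSPLIT: the fields with 169, 121, 49 elements (helper88)
-/

set_option autoImplicit false
set_option maxRecDepth 100000
set_option Elab.async false

namespace Cfsg.Agent.E7P.Ns

open Cfsg.Agent.R2.H28.SL2 (hb)
open Finset

/-- the labels -/
def gs169 : GrL :=
  (.cons (nat_lit 4638725242804633855) (.cons (nat_lit 72198537953411072) (nat_lit 0)
  (.cons (nat_lit 36099303471055874) (nat_lit 1) (.cons (nat_lit 36099303471055360) (nat_lit 0)
  (.cons (nat_lit 72163284727365632) (nat_lit 0) (.cons (nat_lit 36099303470792704) (nat_lit 0)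
  (.cons (nat_lit 36064050245009921) (nat_lit 0) (.cons (nat_lit 36099303336312832) (nat_lit 0)
  (.cons (nat_lit 36099234482618368) (nat_lit 0) (.cons (nat_lit 36063981391052800) (nat_lit 0) .nil)))))))))
  (.cons (nat_lit 4620746028667240703) (.cons (nat_lit 35322214483459) (nat_lit 0)
  (.cons (nat_lit 35253226045953) (nat_lit 0) .nil)) (.cons (nat_lit 4620710913014628607)
  (.cons (nat_lit 68988700677) (nat_lit 0) (.cons (nat_lit 68988700163) (nat_lit 0)
  (.cons (nat_lit 68853957121) (nat_lit 0) .nil))) (.cons (nat_lit 4620710844429369599)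
  (.cons (nat_lit 134743555) (nat_lit 0) (.cons (nat_lit 134480385) (nat_lit 0) .nil))
  (.cons (nat_lit 4620710844295414015) (.cons (nat_lit 263171) (nat_lit 0) (.cons (nat_lit 262657) (nat_lit 0)
  .nil)) (.cons (nat_lit 4620710844295152383) (.cons (nat_lit 513) (nat_lit 0) .nil) .nil))))))

/-- the test of the classes -/
noncomputable def go169 : ℕ → Bool :=
  go (nat_lit 4620710844295151872)
    (nat_lit 4476313630410927357) 2
    (nat_lit 0) (nat_lit 4) [0] gs169

theorem okL169 : okL 13 2 12 (6 + 1) (fun _ => 0) gs169 4620710844295151872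
    4476313630410927357
    0 4 = true := by decide +kernel

theorem okE169 : okE 12 = true := by decide +kernel

theorem c169_0 : chR (nat_lit 9223372036854775808) go169 12 0 256 = true := by decide +kernel

theorem all169 : ∀ j < 256, ch (512 ^ (12 / 2 + 1)) go169 12 j = true := by
  intro j hj
  rw [show 512 ^ (12 / 2 + 1) = 9223372036854775808 by norm_num]
  exact chR_ok c169_0 (by omega) hj

theorem num169 {n : ℕ → ℕ} (hdim : ∑ b ∈ range (13 ^ 2), n b * dimN 13 b = 133) (hev : ∀ b, n b ≠ 0 → Even b)
    (hf : ∀ b, fo 13 2 b ≤ n b) (hp : n 0 + 2 ≤ ∑ b ∈ range (13 ^ 2), n b * hb 13 2 b)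
    (h : Cls 12 (∑ b ∈ range (13 ^ 2), n b * vec 12 13 b)) : False := by
  obtain ⟨Y, h1, h2⟩ := cls_ok (by norm_num) (by norm_num) okE169 all169 h
  exact num_ok (by norm_num) okL169 hdim hev hf hp (List.mem_singleton.2 (sum_eq_zero fun _ _ => mul_zero _)) h1 h2

/-- the labels -/
def gs121 : GrL :=
  (.cons (nat_lit 318770771407608987694816952575) (.cons (nat_lit 2483143096704257441317782531) (nat_lit 0)
  (.cons (nat_lit 2480725245065028182968370691) (nat_lit 0)
  (.cons (nat_lit 2483143096704257441317519874) (nat_lit 0)
  (.cons (nat_lit 2478307393425798924618696194) (nat_lit 0)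
  (.cons (nat_lit 2478307393443848507500003840) (nat_lit 0)
  (.cons (nat_lit 2483143096686207789582255107) (nat_lit 0)
  (.cons (nat_lit 2480725235823606494512285187) (nat_lit 0)
  (.cons (nat_lit 2480725245065028182833627649) (nat_lit 0)
  (.cons (nat_lit 2478307384202426887763657729) (nat_lit 0)
  (.cons (nat_lit 2480725245046978531232580097) (nat_lit 0)
  (.cons (nat_lit 2478307384184377236162610177) (nat_lit 0)
  (.cons (nat_lit 2480720513439074041851282435) (nat_lit 0)
  (.cons (nat_lit 2480725235823571241286238721) (nat_lit 0)
  (.cons (nat_lit 2478307384184341982936826881) (nat_lit 0)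
  (.cons (nat_lit 2478302661817894366383178240) (nat_lit 1)
  (.cons (nat_lit 2480720513439073972997325313) (nat_lit 0)
  (.cons (nat_lit 2478302652576472677927355393) (nat_lit 0)
  (.cons (nat_lit 2478302652576472677792875009) (nat_lit 0) .nil))))))))))))))))))
  (.cons (nat_lit 317535249219962836678267240703) (.cons (nat_lit 2422592488555505175233026) (nat_lit 0)
  (.cons (nat_lit 2422592488555505040752640) (nat_lit 0) (.cons (nat_lit 2422583247133816584929280) (nat_lit 0)
  (.cons (nat_lit 2417860862636548296015873) (nat_lit 0) (.cons (nat_lit 2417860862601363923927041) (nat_lit 0)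
  (.cons (nat_lit 2417860862601295204450305) (nat_lit 0) (.cons (nat_lit 2417851639229258349674497) (nat_lit 0)
  (.cons (nat_lit 2417851639229258349412353) (nat_lit 0) .nil))))))))
  (.cons (nat_lit 317532836090690090289563042047) (.cons (nat_lit 4731625954209970782720) (nat_lit 0)
  (.cons (nat_lit 4731607904558235517440) (nat_lit 0) (.cons (nat_lit 4731607904558235254784) (nat_lit 0) .nil)))
  (.cons (nat_lit 317532831377546979456772604159) (.cons (nat_lit 9241456941681868800) (nat_lit 0)
  (.cons (nat_lit 9241421688455823360) (nat_lit 0) .nil)) (.cons (nat_lit 317532831368341621818427310335)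
  (.cons (nat_lit 18049651735265280) (nat_lit 0) (.cons (nat_lit 18049582881570816) (nat_lit 0) .nil))
  (.cons (nat_lit 317532831368323642604289917183) (.cons (nat_lit 35253226045953) (nat_lit 0) .nil)
  (.cons (nat_lit 317532831368323607488637305087) (.cons (nat_lit 68853957121) (nat_lit 0) .nil)
  (.cons (nat_lit 317532831368323607420052046079) (.cons (nat_lit 134480385) (nat_lit 0) .nil)
  (.cons (nat_lit 317532831368323607419918090495) (.cons (nat_lit 262657) (nat_lit 0) .nil)
  (.cons (nat_lit 317532831368323607419917828863) (.cons (nat_lit 513) (nat_lit 0) .nil) .nil))))))))))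

/-- the test of the classes -/
noncomputable def go121 : ℕ → Bool :=
  go (nat_lit 317532831368323607419917828352)
    (nat_lit 307617202869412800696035702533) 2
    (nat_lit 0) (nat_lit 4) [0] gs121

theorem okL121 : okL 11 2 20 (10 + 1) (fun _ => 0) gs121 317532831368323607419917828352
    307617202869412800696035702533
    0 4 = true := by decide +kernel

theorem okE121 : okE 20 = true := by decide +kernel

theorem c121_0 : chR (nat_lit 633825300114114700748351602688) go121 20 0 7 = true := by decide +kernel

theorem c121_7 : chR (nat_lit 633825300114114700748351602688) go121 20 7 25 = true := by decide +kernel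

theorem c121_32 : chR (nat_lit 633825300114114700748351602688) go121 20 32 22 = true := by decide +kernel

theorem c121_54 : chR (nat_lit 633825300114114700748351602688) go121 20 54 202 = true := by decide +kernel

theorem all121 : ∀ j < 256, ch (512 ^ (20 / 2 + 1)) go121 20 j = true := by
  intro j hj
  rw [show 512 ^ (20 / 2 + 1) = 633825300114114700748351602688 by norm_num]
  by_cases h0 : j < 7
  · exact chR_ok c121_0 (by omega) h0
  by_cases h7 : j < 32
  · exact chR_ok c121_7 (by omega) h7
  by_cases h32 : j < 54
  · exact chR_ok c121_32 (by omega) h32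
  exact chR_ok c121_54 (by omega) hj

theorem num121 {n : ℕ → ℕ} (hdim : ∑ b ∈ range (11 ^ 2), n b * dimN 11 b = 133) (hev : ∀ b, n b ≠ 0 → Even b)
    (hf : ∀ b, fo 11 2 b ≤ n b) (hp : n 0 + 2 ≤ ∑ b ∈ range (11 ^ 2), n b * hb 11 2 b)
    (h : Cls 20 (∑ b ∈ range (11 ^ 2), n b * vec 20 11 b)) : False := by
  obtain ⟨Y, h1, h2⟩ := cls_ok (by norm_num) (by norm_num) okE121 all121 h
  exact num_ok (by norm_num) okL121 hdim hev hf hp (List.mem_singleton.2 (sum_eq_zero fun _ _ => mul_zero _)) h1 h2

/-- the labels -/
def gs49 : GrL :=
  (.cons (nat_lit 83563845099876250470270095216214271)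
  (.cons (nat_lit 650307238642326747995991712465923) (nat_lit 0)
  (.cons (nat_lit 650306000702278239243679824085504) (nat_lit 0)
  (.cons (nat_lit 650307238642326729946339976937985) (nat_lit 0)
  (.cons (nat_lit 649672175402164106528464243786753) (nat_lit 0)
  (.cons (nat_lit 649672175402164106493211017740801) (nat_lit 0)
  (.cons (nat_lit 650305998279694992109863373636096) (nat_lit 0)
  (.cons (nat_lit 649672172979590100816336248897536) (nat_lit 0)
  (.cons (nat_lit 649672172974858492911846867337216) (nat_lit 0) .nil))))))))
  (.cons (nat_lit 83239960371517937858187687547240703) (.cons (nat_lit 635065662736647179655463567873) (nat_lit 0)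
  (.cons (nat_lit 635065662736647179586609611265) (nat_lit 0)
  (.cons (nat_lit 635063240162641467527468679168) (nat_lit 1)
  (.cons (nat_lit 635063240153400081092104421376) (nat_lit 0) .nil))))
  (.cons (nat_lit 83239327784157863028867214094762239) (.cons (nat_lit 1240362622532514091484054017) (nat_lit 0)
  (.cons (nat_lit 1237940048508752311888117761) (nat_lit 0)
  (.cons (nat_lit 1237940048508752311753900033) (nat_lit 0) .nil)))
  (.cons (nat_lit 83239326548635675382716197545050367) (.cons (nat_lit 2422583247133747731235329) (nat_lit 0) .nil)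
  (.cons (nat_lit 83239326546222546109969808840851711) (.cons (nat_lit 4731607869305009472001) (nat_lit 0) .nil)
  (.cons (nat_lit 83239326546217832966858976050413823) (.cons (nat_lit 9223372036854775809) (nat_lit 0) .nil)
  (.cons (nat_lit 83239326546217823761501337705119999) (.cons (nat_lit 18049651735527936) (nat_lit 1) .nil)
  (.cons (nat_lit 83239326546217823743522123567726847) (.cons (nat_lit 35253226045440) (nat_lit 0) .nil)
  (.cons (nat_lit 83239326546217823743487007915114751) (.cons (nat_lit 68853694464) (nat_lit 0) .nil)
  (.cons (nat_lit 83239326546217823743486939329855743) (.cons (nat_lit 134480385) (nat_lit 0) .nil)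
  (.cons (nat_lit 83239326546217823743486939195900159) (.cons (nat_lit 262657) (nat_lit 0) .nil)
  (.cons (nat_lit 83239326546217823743486939195638527) (.cons (nat_lit 513) (nat_lit 0) .nil) .nil))))))))))))

/-- the test of the classes -/
noncomputable def go49 : ℕ → Bool :=
  go (nat_lit 83239326546217823743486939195638016)
    (nat_lit 83238056419737489201080543932447493) 2
    (nat_lit 0) (nat_lit 4) [0] gs49

theorem okL49 : okL 7 2 24 (12 + 1) (fun _ => 0) gs49 83239326546217823743486939195638016
    83238056419737489201080543932447493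
    0 4 = true := by decide +kernel

theorem okE49 : okE 24 = true := by decide +kernel

theorem c49_0 : chR (nat_lit 166153499473114484112975882535043072) go49 24 0 2 = true := by decide +kernel

theorem c49_2 : chR (nat_lit 166153499473114484112975882535043072) go49 24 2 6 = true := by decide +kernel

theorem c49_8 : chR (nat_lit 166153499473114484112975882535043072) go49 24 8 9 = true := by decide +kernel

theorem c49_17 : chR (nat_lit 166153499473114484112975882535043072) go49 24 17 3 = true := by decide +kernel

theorem c49_20 : chR (nat_lit 166153499473114484112975882535043072) go49 24 20 13 = true := by decide +kernel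

theorem c49_33 : chR (nat_lit 166153499473114484112975882535043072) go49 24 33 15 = true := by decide +kernel

theorem c49_48 : chR (nat_lit 166153499473114484112975882535043072) go49 24 48 16 = true := by decide +kernel

theorem c49_64 : chR (nat_lit 166153499473114484112975882535043072) go49 24 64 32 = true := by decide +kernel

theorem c49_96 : chR (nat_lit 166153499473114484112975882535043072) go49 24 96 160 = true := by decide +kernel

theorem all49 : ∀ j < 256, ch (512 ^ (24 / 2 + 1)) go49 24 j = true := by
  intro j hj
  rw [show 512 ^ (24 / 2 + 1) = 166153499473114484112975882535043072 by norm_num]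
  by_cases h0 : j < 2
  · exact chR_ok c49_0 (by omega) h0
  by_cases h2 : j < 8
  · exact chR_ok c49_2 (by omega) h2
  by_cases h8 : j < 17
  · exact chR_ok c49_8 (by omega) h8
  by_cases h17 : j < 20
  · exact chR_ok c49_17 (by omega) h17
  by_cases h20 : j < 33
  · exact chR_ok c49_20 (by omega) h20
  by_cases h33 : j < 48
  · exact chR_ok c49_33 (by omega) h33
  by_cases h48 : j < 64
  · exact chR_ok c49_48 (by omega) h48
  by_cases h64 : j < 96
  · exact chR_ok c49_64 (by omega) h64
  exact chR_ok c49_96 (by omega) hj

theorem num49 {n : ℕ → ℕ} (hdim : ∑ b ∈ range (7 ^ 2), n b * dimN 7 b = 133) (hev : ∀ b, n b ≠ 0 → Even b)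
    (hf : ∀ b, fo 7 2 b ≤ n b) (hp : n 0 + 2 ≤ ∑ b ∈ range (7 ^ 2), n b * hb 7 2 b)
    (h : Cls 24 (∑ b ∈ range (7 ^ 2), n b * vec 24 7 b)) : False := by
  obtain ⟨Y, h1, h2⟩ := cls_ok (by norm_num) (by norm_num) okE49 all49 h
  exact num_ok (by norm_num) okL49 hdim hev hf hp (List.mem_singleton.2 (sum_eq_zero fun _ _ => mul_zero _)) h1 h2

end Cfsg.Agent.E7P.Ns
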